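import Mathlib
import Cfsg.Agent.GroupStructure3.McLOut.Graph
import Cfsg.Agent.GroupStructure3.McLStab.Data

/-!
The automorphism group of the graph on the 112 neighbours of a vertex has order at most 26127360.
-/

set_option autoImplicit false
set_option maxRecDepth 10000

namespace Cfsg.Agent.GroupStructure3.McLStab

open Cfsg.Agent.GroupStructure3.McLOut (bits8 cnt cnt_eq mkMask testBit_mkMask)

/-- The adjacency mask of a neighbour. -/
def adjM (i : ℕ) : ℕ := adjL.getD i 0

theorem adjM_lt : ∀ i : Fin 112, adjM i < 2 ^ 112 := by decide +kernel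

/-- Adjacency. -/
def adjB (i j : Fin 112) : Bool := (adjM i).testBit j

theorem cnt_fin (i : Fin 112) (S : ℕ) :
    cnt 14 (adjM i &&& S) = ∑ j : Fin 112, (adjB i j && S.testBit j).toNat := by
  rw [cnt_eq, show 8 * 14 = 112 by norm_num,
    ← Fin.sum_univ_eq_sum_range (fun j => ((adjM i &&& S).testBit j).toNat)]
  simp [adjB, Nat.testBit_and]

/-- The mask of one splitting. -/
def stepMask (L : List ℕ) (t : ℕ × ℕ × ℕ) : ℕ :=
  mkMask (fun i => (L.getD t.1 0).testBit i && cnt 14 (adjM i &&& L.getD t.2.1 0) == t.2.2) 112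

/-- Checks the listed masks of the splittings. -/
def chk : List (ℕ × ℕ × ℕ × ℕ) → List ℕ → Bool
  | [], _ => true
  | t :: r, L => (stepMask L t.2 == t.1) && chk r (t.1 :: L)

/-- Prepends the listed masks. -/
def push : List (ℕ × ℕ × ℕ × ℕ) → List ℕ → List ℕ
  | [], L => L
  | t :: r, L => push r (t.1 :: L)

/-- The record of a level. -/
def lev (j : ℕ) : ℕ × ℕ × ℕ × List (ℕ × ℕ × ℕ × ℕ) := cert.getD j (0, 0, 0, [])

/-- The two masks added when a vertex is fixed. -/
def fixing (L : List ℕ) (b d : ℕ) : List ℕ := d :: 2 ^ b :: L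

/-- The masks of the first levels, the last first. -/
def lv : ℕ → List ℕ
  | 0 => [2 ^ 112 - 1]
  | n + 1 => push (lev n).2.2.2 (fixing (lv n) (lev n).1 (lev n).2.2.1)

theorem levels_ok : ((List.range 6).all fun j =>
    (((lv j).getD (lev j).2.1 0 ^^^ 2 ^ (lev j).1) == (lev j).2.2.1) &&
      chk (lev j).2.2.2 (fixing (lv j) (lev j).1 (lev j).2.2.1)) = true := by decide +kernel

/-- The base points. -/
def base (j : ℕ) : ℕ := (lev j).1

/-- The mask at a level containing the next base point. -/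
def target (j : ℕ) : ℕ := (lv j).getD (lev j).2.1 0

theorem base_lt : ∀ j < 6, base j < 112 := by decide +kernel

theorem final_check : ((List.range 112).all fun i => (lv 6).contains (2 ^ i)) = true := by
  decide +kernel

theorem final (i : Fin 112) : 2 ^ (i : ℕ) ∈ lv 6 := by
  have h := List.all_eq_true.1 final_check i (List.mem_range.2 i.2)
  exact List.contains_iff_mem.1 h

theorem target_facts : (∀ j < 6, (target j).testBit (base j) = true) ∧
    (List.range 6).map (fun j => cnt 14 (target j)) = [112, 81, 20, 18, 4, 2] := by decide +kernel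

/-- A mask invariant under a permutation. -/
def Inv (σ : Equiv.Perm (Fin 112)) (m : ℕ) : Prop :=
  ∀ i : Fin 112, m.testBit (σ i : ℕ) = m.testBit (i : ℕ)

/-- Every mask of a list is invariant. -/
def InvL (σ : Equiv.Perm (Fin 112)) (L : List ℕ) : Prop := ∀ m ∈ L, Inv σ m

/-- The automorphism group. -/
def Au : Subgroup (Equiv.Perm (Fin 112)) where
  carrier := {σ | ∀ i j, adjB (σ i) (σ j) = adjB i j}
  mul_mem' := fun {σ τ} hσ hτ i j => (hσ _ _).trans (hτ i j)
  one_mem' := fun _ _ => rfl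
  inv_mem' := fun {σ} hσ i j => by
    have := hσ (σ⁻¹ i) (σ⁻¹ j)
    rwa [Equiv.Perm.coe_inv, Equiv.apply_symm_apply, Equiv.apply_symm_apply, eq_comm] at this

theorem mem_Au {σ : Equiv.Perm (Fin 112)} : σ ∈ Au ↔ ∀ i j, adjB (σ i) (σ j) = adjB i j := Iff.rfl

theorem inv_getD {σ : Equiv.Perm (Fin 112)} {L : List ℕ} (hL : InvL σ L) (k : ℕ) :
    Inv σ (L.getD k 0) := by
  rw [List.getD_eq_getElem?_getD]
  rcases h : L[k]? with _ | m
  · intro i; simp
  · exact hL m (List.mem_of_getElem? h)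

theorem inv_step {σ : Equiv.Perm (Fin 112)} (hσ : σ ∈ Au) {L : List ℕ} (hL : InvL σ L)
    (t : ℕ × ℕ × ℕ) : Inv σ (stepMask L t) := by
  intro i
  rw [stepMask, testBit_mkMask, testBit_mkMask]
  have hc : cnt 14 (adjM (σ i) &&& L.getD t.2.1 0) = cnt 14 (adjM i &&& L.getD t.2.1 0) := by
    rw [cnt_fin, cnt_fin]
    refine (Fintype.sum_equiv σ _ _ fun j => ?_).symm
    rw [hσ i j, inv_getD hL t.2.1 j]
  rw [inv_getD hL t.1 i, hc]
  simp

theorem inv_fixing {σ : Equiv.Perm (Fin 112)} {L : List ℕ} (hL : InvL σ L) {b : ℕ} (hb : b < 112)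
    (hσb : σ ⟨b, hb⟩ = ⟨b, hb⟩) {d A : ℕ} (hd : L.getD A 0 ^^^ 2 ^ b = d) :
    InvL σ (fixing L b d) := by
  have h2 : Inv σ (2 ^ b) := fun i => by
    rw [Nat.testBit_two_pow, Nat.testBit_two_pow]
    refine decide_eq_decide.2 ⟨fun e => ?_, fun e => ?_⟩
    · have : σ i = σ ⟨b, hb⟩ := hσb.symm ▸ Fin.ext e.symm
      rw [σ.injective this]
    · have : i = ⟨b, hb⟩ := Fin.ext e.symm
      rw [this, hσb]
  intro m hm
  simp only [fixing, List.mem_cons] at hm
  rcases hm with rfl | rfl | h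
  · intro i; rw [← hd, Nat.testBit_xor, Nat.testBit_xor, inv_getD hL A i, h2 i]
  · exact h2
  · exact hL m h

theorem inv_push {σ : Equiv.Perm (Fin 112)} (hσ : σ ∈ Au) :
    ∀ (ts : List (ℕ × ℕ × ℕ × ℕ)) {L : List ℕ}, InvL σ L → chk ts L = true → InvL σ (push ts L)
  | [], _, h, _ => h
  | t :: ts, L, h, hc => by
    rw [chk, Bool.and_eq_true, beq_iff_eq] at hc
    refine inv_push hσ ts (fun m hm => ?_) hc.2
    rcases List.mem_cons.1 hm with rfl | hm
    · exact hc.1 ▸ inv_step hσ h t.2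
    · exact h m hm

theorem inv_lv {σ : Equiv.Perm (Fin 112)} (hσ : σ ∈ Au) :
    ∀ n ≤ 6, (∀ j < n, ∀ h : base j < 112, σ ⟨base j, h⟩ = ⟨base j, h⟩) → InvL σ (lv n)
  | 0, _, _ => by
    intro m hm i
    rw [lv, List.mem_singleton] at hm
    subst hm
    rw [Nat.testBit_two_pow_sub_one, Nat.testBit_two_pow_sub_one]
    simp
  | n + 1, hn, hfix => by
    have h := List.all_eq_true.1 levels_ok n (List.mem_range.2 (by omega))
    rw [Bool.and_eq_true, beq_iff_eq] at h
    rw [lv]
    exact inv_push hσ _ (inv_fixing (inv_lv hσ n (by omega) fun j hj => hfix j (by omega))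
      (base_lt n (by omega)) (hfix n (Nat.lt_succ_self n) _) h.1) h.2

/-- The stabiliser of the first base points. -/
def K (n : ℕ) : Subgroup (Equiv.Perm (Fin 112)) where
  carrier := {σ | σ ∈ Au ∧ ∀ j < n, ∀ h : base j < 112, σ ⟨base j, h⟩ = ⟨base j, h⟩}
  mul_mem' := fun {σ τ} hσ hτ => ⟨mul_mem hσ.1 hτ.1, fun j hj h => by
    rw [Equiv.Perm.mul_apply, hτ.2 j hj h, hσ.2 j hj h]⟩
  one_mem' := ⟨one_mem _, fun _ _ _ => rfl⟩
  inv_mem' := fun {σ} hσ => ⟨inv_mem hσ.1, fun j hj h => Equiv.Perm.inv_eq_iff_eq.2 (hσ.2 j hj h).symm⟩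

theorem K_zero : K 0 = Au :=
  le_antisymm (fun _ h => h.1) fun _ h => ⟨h, fun _ hj => absurd hj (Nat.not_lt_zero _)⟩

theorem K_six : K 6 = ⊥ := by
  rw [eq_bot_iff]
  intro σ hσ
  rw [Subgroup.mem_bot]
  refine Equiv.ext fun i => ?_
  have h := inv_lv hσ.1 6 le_rfl hσ.2 _ (final i) i
  rw [Nat.testBit_two_pow_self, Nat.testBit_two_pow, decide_eq_true_iff] at h
  exact Fin.ext h.symm

/-- The orbit bound at each level. -/
def bound (n : ℕ) : ℕ := [112, 81, 20, 18, 4, 2].getD n 1

theorem cnt_target {n : ℕ} (hn : n < 6) :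
    (Finset.univ.filter fun i : Fin 112 => (target n).testBit i = true).card = bound n := by
  have h := congrArg (fun l : List ℕ => l.getD n 1) target_facts.2
  simp only [List.getD_eq_getElem?_getD, List.getElem?_map, List.getElem?_range hn,
    Option.map_some, Option.getD_some] at h
  rw [bound, List.getD_eq_getElem?_getD, ← h, Finset.card_filter, cnt_eq,
    show 8 * 14 = 112 by norm_num,
    ← Fin.sum_univ_eq_sum_range (fun j => ((target n).testBit j).toNat)]
  exact Finset.sum_congr rfl fun i _ => by cases (target n).testBit i <;> rfl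

theorem orbit_subset {n : ℕ} (hn : n < 6) :
    MulAction.orbit (K n) (⟨base n, base_lt n hn⟩ : Fin 112) ⊆
      {i : Fin 112 | (target n).testBit (i : ℕ) = true} := by
  rintro _ ⟨σ, rfl⟩
  show (target n).testBit (((σ : Equiv.Perm (Fin 112)) ⟨base n, base_lt n hn⟩ : Fin 112) : ℕ) = true
  rw [target, inv_getD (inv_lv σ.2.1 n hn.le σ.2.2) _ _]
  exact target_facts.1 n hn

theorem card_succ {n : ℕ} (hn : n < 6) :
    Nat.card (K n) = (MulAction.orbit (K n) (⟨base n, base_lt n hn⟩ : Fin 112)).ncard * Nat.card (K (n + 1)) := by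
  have h := Subgroup.index_mul_card (MulAction.stabilizer (K n) (⟨base n, base_lt n hn⟩ : Fin 112))
  rw [MulAction.index_stabilizer] at h
  rw [← h]
  congr 1
  refine Nat.card_congr ⟨fun s => ⟨s.1.1, s.1.2.1, fun j hj h' => ?_⟩,
    fun s => ⟨⟨s.1, s.2.1, fun j hj => s.2.2 j (by omega)⟩, s.2.2 n (Nat.lt_succ_self n) _⟩,
    fun s => rfl, fun s => rfl⟩
  rcases Nat.lt_succ_iff_lt_or_eq.1 hj with hj | rfl
  · exact s.1.2.2 j hj h'
  · exact s.2

theorem orbit_le {n : ℕ} (hn : n < 6) :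
    (MulAction.orbit (K n) (⟨base n, base_lt n hn⟩ : Fin 112)).ncard ≤ bound n := by
  rw [← cnt_target hn, ← Set.ncard_coe_finset]
  exact Set.ncard_le_ncard (by rw [Finset.coe_filter]; simpa using orbit_subset hn)

/-- The product of the bounds from a level on. -/
def tail (n : ℕ) : ℕ := (([112, 81, 20, 18, 4, 2] : List ℕ).drop n).prod

theorem card_K_le : ∀ d n, n + d = 6 → Nat.card (K n) ≤ tail n
  | 0, n, h => by
    obtain rfl : n = 6 := h
    rw [K_six, Subgroup.card_bot]; rfl
  | d + 1, n, h => by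
    rw [card_succ (by omega : n < 6)]
    calc _ ≤ bound n * tail (n + 1) :=
          Nat.mul_le_mul (orbit_le (by omega)) (card_K_le d (n + 1) (by omega))
      _ = tail n := by
        have key : ∀ n < 6, bound n * tail (n + 1) = tail n := by decide +kernel
        exact key n (by omega)

theorem card_Au_le : Nat.card Au ≤ 26127360 :=
  (K_zero ▸ card_K_le 6 0 rfl).trans_eq (by decide +kernel)

end Cfsg.Agent.GroupStructure3.McLStab
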