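import Mathlib
import Cfsg.Agent.GroupStructure3.McLStab.Graph

/-!
The totally isotropic lines of the unitary space of dimension four over nine elements, as tables.
-/

set_option autoImplicit false
set_option maxRecDepth 10000

namespace Cfsg.Agent.GroupStructure3.McLStab

/-- The sum of two coded elements of the field. -/
def addT (x y : ℕ) : ℕ := (x % 3 + y % 3) % 3 + 3 * ((x / 3 + y / 3) % 3)

/-- The product of two coded elements of the field. -/
def mulT (x y : ℕ) : ℕ :=
  (x % 3 * (y % 3) + x / 3 * (y / 3)) % 3 +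
    3 * ((x % 3 * (y / 3) + x / 3 * (y % 3) + x / 3 * (y / 3)) % 3)

/-- A coordinate of a coded vector. -/
def dig (c : ℕ) : ℕ → ℕ
  | 0 => c % 9
  | 1 => c / 9 % 9
  | 2 => c / 81 % 9
  | _ => c / 729 % 9

/-- The code of a vector. -/
def enc (a b c d : ℕ) : ℕ := a + 9 * (b + 9 * (c + 9 * d))

/-- A combination of two coded vectors. -/
def comb (a u b v : ℕ) : ℕ :=
  enc (addT (mulT a (dig u 0)) (mulT b (dig v 0))) (addT (mulT a (dig u 1)) (mulT b (dig v 1)))
    (addT (mulT a (dig u 2)) (mulT b (dig v 2))) (addT (mulT a (dig u 3)) (mulT b (dig v 3)))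

/-- The cube of a coded element. -/
def cubeT (x : ℕ) : ℕ := mulT x (mulT x x)

/-- The hermitian product of two coded vectors. -/
def hermT (u v : ℕ) : ℕ :=
  addT (addT (addT (mulT (dig u 0) (cubeT (dig v 0))) (mulT (dig u 1) (cubeT (dig v 1))))
    (mulT (dig u 2) (cubeT (dig v 2)))) (mulT (dig u 3) (cubeT (dig v 3)))

/-- The code of a point. -/
def ptC (i : ℕ) : ℕ := (ptNum >>> (13 * i)) % 8192

/-- The mask of a line. -/
def lineM (l : ℕ) : ℕ := (lineNum >>> (280 * l)) % 2 ^ 280

/-- The points of a line. -/
def lineC (l : ℕ) : List ℕ := lineL.getD l []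

/-- The first point of a line. -/
def fst' (l : ℕ) : ℕ := (lineC l).getD 0 0

/-- The second point of a line. -/
def snd' (l : ℕ) : ℕ := (lineC l).getD 1 0

theorem field_ok : (∀ x < 9, x ≠ 0 → ∃ y < 9, mulT x y = 1) ∧
    (∀ x < 9, ∀ y < 9, addT x y < 9 ∧ mulT x y < 9) ∧
    (∀ x < 9, ∀ y < 9, addT x (mulT 2 y) = 0 → x = y) := by decide +kernel

theorem points_ok : ptL.length = 280 ∧ (∀ c ∈ ptL, c < 6561) ∧
    (∀ c < 6561, c = 0 ∨ hermT c c ≠ 0 ∨
      (List.range 9).any (fun k => k != 0 && ptMask.testBit (comb k c 0 0)) = true) := by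
  decide +kernel

theorem mask_ok : ((List.range 6561).all fun c => !ptMask.testBit c || ptL.contains c) = true ∧
    (List.range 280).map ptC = ptL := by decide +kernel

theorem lineM_ok : ((List.range 112).all fun l =>
    lineM l == (lineC l).foldl (fun m i => m ||| 2 ^ i) 0) = true := by decide +kernel

theorem lead_ok : ∀ i < 280, hermT (ptC i) (ptC i) = 0 ∧
    ∃ j < 4, dig (ptC i) j = 1 ∧ ∀ k < j, dig (ptC i) k = 0 := by decide +kernel

theorem ptL_nodup : ptL.Nodup := by decide +kernel

theorem lines_ok : lineL.length = 112 ∧ (∀ l < 112, fst' l < 280 ∧ snd' l < 280 ∧ fst' l ≠ snd' l ∧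
    fst' l ∈ lineC l ∧ snd' l ∈ lineC l ∧ hermT (ptC (fst' l)) (ptC (snd' l)) = 0) := by
  decide +kernel

theorem coef_ok : ((List.range 112).all fun l =>
    ((lineC l).zip (coefL.getD l [])).all fun e =>
      decide (e.1 < 280) && decide (e.2.1 < 9) && decide (e.2.2 < 9) &&
        comb e.2.1 (ptC (fst' l)) e.2.2 (ptC (snd' l)) == ptC e.1) = true ∧
    ∀ l < 112, (coefL.getD l []).length = (lineC l).length := by decide +kernel

theorem span_ok : ((List.range 112).all fun l => (List.range 9).all fun c =>
    (lineC l).any fun i => (List.range 9).any fun k =>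
      k != 0 && comb k (ptC i) 0 0 == comb 1 (ptC (fst' l)) c (ptC (snd' l))) = true := by
  decide +kernel

theorem ptLines_ok : ((List.range 280).all fun i => (ptLines.getD i []).all fun l =>
    decide (l < 112) && (lineC l).contains i) = true := by decide +kernel

theorem join_ok : ((List.range 280).all fun i => (List.range 280).all fun j =>
    decide (j ≤ i) || hermT (ptC i) (ptC j) != 0 ||
      (ptLines.getD i []).any fun l => (lineM l).testBit j)
      = true := by decide +kernel

/-- Two lines share a point. -/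
def share (l m : ℕ) : Bool := lineM l &&& lineM m != 0

theorem meet_ok : ((List.range 112).all fun l => (List.range 112).all fun m =>
    l == m || (share l m == (adjM l).testBit m &&
      (lineM l &&& lineM m) &&& ((lineM l &&& lineM m) - 1) == 0)) = true ∧
    ∀ l < 112, (adjM l).testBit l = false := by decide +kernel

theorem line_nodup : ((List.range 112).all fun l => decide (lineC l).Nodup) = true := by decide +kernel

theorem off_line : ∃ i < 280, i ∉ lineC 0 := by decide +kernel

end Cfsg.Agent.GroupStructure3.McLStab
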