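import Mathlib
import Cfsg.Agent.GroupStructure3.McLStab.Codes
import Cfsg.Agent.Lib.Classical.UnitarySimple

/-!
The special unitary group of dimension four over nine elements acts on the graph of the lines.
-/

set_option autoImplicit false
set_option maxRecDepth 10000

namespace Cfsg.Agent.GroupStructure3.McLStab

open Cfsg Matrix Cfsg.Agent.Classical Cfsg.Agent.Classical.Unitary Cfsg.Agent.Forms
open Cfsg.Agent.GroupStructure3.McLOut (cnt)

/-- A field of nine elements with a root of `x² = x + 1`. -/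
structure Nine (F : Type) [Field F] [Fintype F] where
  card : Fintype.card F = 9
  ζ : F
  eq : ζ ^ 2 = ζ + 1

variable {F : Type} [Field F] [Fintype F]

theorem exists_nine (hF : Fintype.card F = 9) : Nonempty (Nine F) := by
  haveI : CharP F 3 := charP_of_card_eq_prime_pow (p := 3) (f := 2) hF
  obtain ⟨i, hi⟩ : IsSquare (-1 : F) := FiniteField.isSquare_neg_one_iff.2 (by rw [hF]; norm_num)
  refine ⟨⟨hF, -(1 + i), ?_⟩⟩
  have h3 : (3 : F) = 0 := by exact_mod_cast CharP.cast_eq_zero F 3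
  linear_combination (i * (1 : F)) * h3 - hi

theorem mod_div_code (A B : ℕ) : (A % 3 + 3 * (B % 3)) % 3 = A % 3 ∧ (A % 3 + 3 * (B % 3)) / 3 = B % 3 := by
  omega

theorem dig_enc {a b c d : ℕ} (ha : a < 9) (hb : b < 9) (hc : c < 9) (hd : d < 9) :
    dig (enc a b c d) 0 = a ∧ dig (enc a b c d) 1 = b ∧ dig (enc a b c d) 2 = c ∧
      dig (enc a b c d) 3 = d := by
  refine ⟨?_, ?_, ?_, ?_⟩ <;> simp only [dig, enc] <;> omega

theorem dig_lt (c k : ℕ) : dig c k < 9 := by
  rcases k with _ | _ | _ | k <;> exact Nat.mod_lt _ (by norm_num)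

theorem hermT_lt (u v : ℕ) : hermT u v < 9 := by simp only [hermT, addT]; omega

theorem mem_lineM {l i : ℕ} (hl : l < 112) (h : (lineM l).testBit i = true) : i ∈ lineC l := by
  have e := beq_iff_eq.1 (List.all_eq_true.1 lineM_ok l (List.mem_range.2 hl))
  have key : ∀ (L : List ℕ) (m : ℕ), (L.foldl (fun m i => m ||| 2 ^ i) m).testBit i = true →
      m.testBit i = true ∨ i ∈ L := by
    intro L
    induction L with
    | nil => intro m h; exact Or.inl h
    | cons x L ih =>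
      intro m h
      rcases ih _ h with h | h
      · rw [Nat.testBit_or, Bool.or_eq_true, Nat.testBit_two_pow, decide_eq_true_eq] at h
        exact h.imp id fun h => by subst h; exact List.mem_cons_self
      · exact Or.inr (List.mem_cons_of_mem _ h)
  rw [e] at h
  exact (key _ 0 h).resolve_left (by simp)

theorem lineM_mem {l i : ℕ} (hl : l < 112) (h : i ∈ lineC l) : (lineM l).testBit i = true := by
  have e := beq_iff_eq.1 (List.all_eq_true.1 lineM_ok l (List.mem_range.2 hl))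
  have key : ∀ (L : List ℕ) (m : ℕ), (m.testBit i = true ∨ i ∈ L) →
      (L.foldl (fun m i => m ||| 2 ^ i) m).testBit i = true := by
    intro L
    induction L with
    | nil => intro m h; exact h.resolve_right List.not_mem_nil
    | cons x L ih =>
      intro m h
      refine ih _ ?_
      rcases h with h | h
      · exact Or.inl (by rw [Nat.testBit_or, h, Bool.true_or])
      · rcases List.mem_cons.1 h with rfl | h
        · exact Or.inl (by rw [Nat.testBit_or, Nat.testBit_two_pow_self, Bool.or_true])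
        · exact Or.inr h
  rw [e]
  exact key _ 0 (Or.inr h)

theorem line_unique {l m a b : ℕ} (hl : l < 112) (hm : m < 112) (hab : a ≠ b)
    (ha : a ∈ lineC l) (ha' : a ∈ lineC m) (hb : b ∈ lineC l) (hb' : b ∈ lineC m) : l = m := by
  by_contra hne
  have h := List.all_eq_true.1 (List.all_eq_true.1 meet_ok.1 l (List.mem_range.2 hl)) m (List.mem_range.2 hm)
  rw [Bool.or_eq_true, beq_iff_eq] at h
  have h2 := h.resolve_left hne
  rw [Bool.and_eq_true, beq_iff_eq, beq_iff_eq] at h2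
  set x := lineM l &&& lineM m
  have hxa : x.testBit a = true := by rw [Nat.testBit_and, lineM_mem hl ha, lineM_mem hm ha']; rfl
  have hxb : x.testBit b = true := by rw [Nat.testBit_and, lineM_mem hl hb, lineM_mem hm hb']; rfl
  -- a number with `x &&& (x - 1) = 0` has at most one bit
  obtain ⟨n, hn⟩ : ∃ n, x = 2 ^ n := by
    have h0 : x ≠ 0 := fun e => by simp [e] at hxa
    refine ⟨x.log2, ?_⟩
    by_contra hne'
    have hle : 2 ^ x.log2 ≤ x := Nat.log2_self_le h0
    have hlt : x < 2 ^ (x.log2 + 1) := Nat.lt_log2_self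
    have h1 : (x - 1).testBit x.log2 = true := by
      rw [Nat.testBit_eq_decide_div_mod_eq, decide_eq_true_eq]
      have hd : (x - 1) / 2 ^ x.log2 = 1 :=
        Nat.div_eq_of_lt_le (by omega) (by rw [pow_succ] at hlt; omega)
      rw [hd]
    have h2' : x.testBit x.log2 = true := by
      rw [Nat.testBit_eq_decide_div_mod_eq, decide_eq_true_eq]
      have hd : x / 2 ^ x.log2 = 1 :=
        Nat.div_eq_of_lt_le (by omega) (by rw [pow_succ] at hlt; omega)
      rw [hd]
    have := congrArg (fun y => Nat.testBit y x.log2) h2.2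
    simp [h1, h2'] at this
  rw [hn, Nat.testBit_two_pow, decide_eq_true_eq] at hxa hxb
  exact hab (hxa.symm.trans hxb)

theorem adj_iff {l m : ℕ} (hl : l < 112) (hm : m < 112) :
    (adjM l).testBit m = true ↔ l ≠ m ∧ ∃ i, i ∈ lineC l ∧ i ∈ lineC m := by
  by_cases hne : l = m
  · subst hne; simp [meet_ok.2 l hl]
  have h := List.all_eq_true.1 (List.all_eq_true.1 meet_ok.1 l (List.mem_range.2 hl)) m (List.mem_range.2 hm)
  rw [Bool.or_eq_true, beq_iff_eq] at h
  have h2 := h.resolve_left hne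
  rw [Bool.and_eq_true, beq_iff_eq] at h2
  rw [← h2.1, share, bne_iff_ne]
  refine ⟨fun h0 => ⟨hne, ?_⟩, fun ⟨_, i, hi, hi'⟩ e => ?_⟩
  · obtain ⟨i, hi⟩ := Nat.exists_testBit_of_ne_zero h0
    rw [Nat.testBit_and, Bool.and_eq_true] at hi
    exact ⟨i, mem_lineM hl hi.1, mem_lineM hm hi.2⟩
  · have := Nat.testBit_and (lineM l) (lineM m) i
    rw [e, lineM_mem hl hi, lineM_mem hm hi'] at this
    simp at this

variable (D : Nine F)

namespace Nine

/-- The element of a code. -/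
def φ (x : ℕ) : F := ((x % 3 : ℕ) : F) + ((x / 3 : ℕ) : F) * D.ζ

include D

theorem charP : CharP F 3 := charP_of_card_eq_prime_pow (p := 3) (f := 2) D.card

theorem cast_mod (n : ℕ) : ((n % 3 : ℕ) : F) = (n : F) := by
  haveI := D.charP
  exact (CharP.natCast_eq_natCast F 3).2 (Nat.mod_modEq n 3)

theorem φ_addT (x y : ℕ) : D.φ (addT x y) = D.φ x + D.φ y := by
  have h1 : addT x y % 3 = (x % 3 + y % 3) % 3 := by unfold addT; omega
  have h2 : addT x y / 3 = (x / 3 + y / 3) % 3 := by unfold addT; omega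
  rw [φ, h1, h2, D.cast_mod (x % 3 + y % 3), D.cast_mod (x / 3 + y / 3), φ, φ]
  push_cast
  ring

theorem φ_mulT (x y : ℕ) : D.φ (mulT x y) = D.φ x * D.φ y := by
  rw [mulT, φ, (mod_div_code _ _).1, (mod_div_code _ _).2, D.cast_mod, D.cast_mod, φ, φ]
  push_cast
  linear_combination (-((x / 3 : ℕ) : F) * ((y / 3 : ℕ) : F)) * D.eq

theorem φ_zero : D.φ 0 = 0 := by simp [φ]

theorem φ_one : D.φ 1 = 1 := by simp [φ]

theorem φ_eq_zero {x : ℕ} (hx : x < 9) (h : D.φ x = 0) : x = 0 := by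
  by_contra h0
  obtain ⟨y, -, hy⟩ := field_ok.1 x hx h0
  have := D.φ_mulT x y
  rw [hy, D.φ_one, h, zero_mul] at this
  exact one_ne_zero this

theorem φ_inj {x y : ℕ} (hx : x < 9) (hy : y < 9) (h : D.φ x = D.φ y) : x = y := by
  refine field_ok.2.2 x hx y hy (D.φ_eq_zero ?_ ?_)
  · exact (field_ok.2.1 x hx _ (field_ok.2.1 2 (by norm_num) y hy).2).1
  · rw [D.φ_addT, D.φ_mulT, h]
    haveI := D.charP
    have h3 : (3 : F) = 0 := by exact_mod_cast CharP.cast_eq_zero F 3
    have h2 : D.φ 2 = 2 := by simp [φ]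
    rw [h2]
    linear_combination (D.φ y) * h3

theorem φ_surj (a : F) : ∃ x < 9, D.φ x = a := by
  classical
  have hbij : Function.Bijective fun x : Fin 9 => D.φ x :=
    (Fintype.bijective_iff_injective_and_card _).2
      ⟨fun x y h => Fin.ext (D.φ_inj x.2 y.2 h), by rw [Fintype.card_fin, D.card]⟩
  obtain ⟨x, hx⟩ := hbij.2 a
  exact ⟨x, x.2, hx⟩

/-- The vector of a code. -/
def vec (c : ℕ) : Fin 4 → F := fun i => D.φ (dig c i)

theorem vec_comb (a u b v : ℕ) :
    D.vec (comb a u b v) = D.φ a • D.vec u + D.φ b • D.vec v := by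
  have hlt : ∀ x y z w : ℕ, addT (mulT x y) (mulT z w) < 9 := fun x y z w => by
    simp only [addT]; omega
  obtain ⟨h0, h1, h2, h3⟩ := dig_enc (hlt a (dig u 0) b (dig v 0)) (hlt a (dig u 1) b (dig v 1))
    (hlt a (dig u 2) b (dig v 2)) (hlt a (dig u 3) b (dig v 3))
  funext i
  fin_cases i
  all_goals simp only [vec, comb, Pi.add_apply, Pi.smul_apply, smul_eq_mul]
  · show D.φ (dig (enc _ _ _ _) 0) = _
    rw [h0, D.φ_addT, D.φ_mulT, D.φ_mulT]
  · show D.φ (dig (enc _ _ _ _) 1) = _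
    rw [h1, D.φ_addT, D.φ_mulT, D.φ_mulT]
  · show D.φ (dig (enc _ _ _ _) 2) = _
    rw [h2, D.φ_addT, D.φ_mulT, D.φ_mulT]
  · show D.φ (dig (enc _ _ _ _) 3) = _
    rw [h3, D.φ_addT, D.φ_mulT, D.φ_mulT]

theorem vec_smul (k c : ℕ) : D.vec (comb k c 0 0) = D.φ k • D.vec c := by
  rw [D.vec_comb, D.φ_zero, zero_smul, add_zero]

theorem φ_hermT (u v : ℕ) : D.φ (hermT u v) = hermForm 4 F 3 (D.vec u) (D.vec v) := by
  simp only [hermT, cubeT, D.φ_addT, D.φ_mulT, hermForm, Fin.sum_univ_four]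
  simp only [vec, Fin.val_zero, Fin.val_one, Fin.val_two, show ((3 : Fin 4) : ℕ) = 3 from rfl]
  ring

theorem vec_surj (v : Fin 4 → F) : ∃ c < 6561, D.vec c = v := by
  choose x hx hxv using fun i => D.φ_surj (v i)
  obtain ⟨h0, h1, h2, h3⟩ := dig_enc (hx 0) (hx 1) (hx 2) (hx 3)
  refine ⟨enc (x 0) (x 1) (x 2) (x 3), ?_, funext fun i => ?_⟩
  · have := hx 0; have := hx 1; have := hx 2; have := hx 3
    simp only [enc]; omega
  · rw [← hxv i]
    fin_cases i
    · exact congrArg D.φ h0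
    · exact congrArg D.φ h1
    · exact congrArg D.φ h2
    · exact congrArg D.φ h3

/-- The vector of a point. -/
def P (i : ℕ) : Fin 4 → F := D.vec (ptC i)

theorem hF : Fintype.card F = 3 ^ 2 := D.card

theorem exists_point {v : Fin 4 → F} (hv : v ≠ 0) (hvv : hermForm 4 F 3 v v = 0) :
    ∃ i < 280, ∃ a : F, a ≠ 0 ∧ v = a • D.P i := by
  obtain ⟨c, hc, rfl⟩ := D.vec_surj v
  rcases points_ok.2.2 c hc with h | h | h
  · refine absurd ?_ hv
    subst h
    funext i
    fin_cases i <;> exact D.φ_zero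
  · refine absurd (D.φ_eq_zero (hermT_lt c c) ?_) h
    rw [D.φ_hermT, hvv]
  · obtain ⟨k, hk, h⟩ := List.any_eq_true.1 h
    rw [Bool.and_eq_true, bne_iff_ne, List.mem_range] at *
    have hlt : comb k c 0 0 < 6561 := by simp only [comb, enc, addT]; omega
    have hm := List.all_eq_true.1 mask_ok.1 _ (List.mem_range.2 hlt)
    rw [h.2, Bool.not_true, Bool.false_or, List.contains_iff_mem, ← mask_ok.2, List.mem_map] at hm
    obtain ⟨i, hi, e⟩ := hm
    have hk0 : D.φ k ≠ 0 := fun h0 => h.1 (D.φ_eq_zero hk h0)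
    refine ⟨i, List.mem_range.1 hi, (D.φ k)⁻¹, inv_ne_zero hk0, ?_⟩
    rw [P, e, D.vec_smul, smul_smul, inv_mul_cancel₀ hk0, one_smul]

theorem herm_P {i : ℕ} (hi : i < 280) : hermForm 4 F 3 (D.P i) (D.P i) = 0 := by
  rw [P, ← D.φ_hermT, (lead_ok i hi).1, D.φ_zero]

theorem P_lead {i : ℕ} (hi : i < 280) :
    ∃ j : Fin 4, D.P i j = 1 ∧ ∀ k : Fin 4, k < j → D.P i k = 0 := by
  obtain ⟨-, j, hj, h1, h2⟩ := lead_ok i hi
  refine ⟨⟨j, hj⟩, ?_, fun k hk => ?_⟩
  · show D.φ (dig (ptC i) j) = 1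
    rw [h1, D.φ_one]
  · show D.φ (dig (ptC i) k) = 0
    rw [h2 _ hk, D.φ_zero]

theorem P_ne {i : ℕ} (hi : i < 280) : D.P i ≠ 0 := fun h => by
  obtain ⟨j, hj, -⟩ := D.P_lead hi
  rw [h] at hj
  exact zero_ne_one hj

theorem P_inj {i j : ℕ} (hi : i < 280) (hj : j < 280) {a : F} (h : D.P i = a • D.P j) : i = j := by
  obtain ⟨x, hx, hx'⟩ := D.P_lead hi
  obtain ⟨y, hy, hy'⟩ := D.P_lead hj
  have hxy : x = y := by
    rcases lt_trichotomy x y with h' | h' | h'
    · have := congrFun h x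
      rw [hx, Pi.smul_apply, hy' x h', smul_zero] at this
      exact absurd this one_ne_zero
    · exact h'
    · have := congrFun h y
      rw [hx' y h', Pi.smul_apply, hy, smul_eq_mul, mul_one] at this
      rw [← this, zero_smul] at h
      exact absurd h (D.P_ne hi)
  have ha : a = 1 := by
    have := congrFun h x
    rw [hx, Pi.smul_apply, hxy, hy, smul_eq_mul, mul_one] at this
    exact this.symm
  rw [ha, one_smul] at h
  have hlen : ((List.range 280).map ptC).length = 280 := by simp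
  have hnd : ((List.range 280).map ptC).Nodup := mask_ok.2.symm ▸ ptL_nodup
  have hcode : ptC i = ptC j := by
    have hb : ∀ k < 280, ptC k < 6561 := fun k hk =>
      points_ok.2.1 _ (mask_ok.2 ▸ List.mem_map.2 ⟨k, List.mem_range.2 hk, rfl⟩)
    have hd : ∀ k : Fin 4, dig (ptC i) k = dig (ptC j) k := fun k =>
      D.φ_inj (dig_lt _ _) (dig_lt _ _) (congrFun h k)
    have := hb i hi; have := hb j hj
    have e0 := hd 0; have e1 := hd 1; have e2 := hd 2; have e3 := hd 3
    simp only [Fin.val_zero, Fin.val_one, Fin.val_two, show ((3 : Fin 4) : ℕ) = 3 from rfl, dig] at e0 e1 e2 e3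
    omega
  exact List.inj_on_of_nodup_map hnd (List.mem_range.2 hi) (List.mem_range.2 hj) hcode

/-- The subspace of a line. -/
def W (l : ℕ) : Submodule F (Fin 4 → F) := Submodule.span F {D.P (fst' l), D.P (snd' l)}

theorem point_mem {l i : ℕ} (hl : l < 112) (hi : i ∈ lineC l) : i < 280 ∧ D.P i ∈ D.W l := by
  obtain ⟨n, hn, e⟩ := List.getElem_of_mem hi
  have hl2 : n < (coefL.getD l []).length := by rw [coef_ok.2 l hl]; exact hn
  have h := List.all_eq_true.1 (List.all_eq_true.1 coef_ok.1 l (List.mem_range.2 hl))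
    ((lineC l)[n], (coefL.getD l [])[n]) (by
      rw [List.mem_iff_getElem]
      exact ⟨n, by rw [List.length_zip]; omega, List.getElem_zip⟩)
  simp only [Bool.and_eq_true, decide_eq_true_eq, beq_iff_eq, e] at h
  refine ⟨h.1.1.1, ?_⟩
  rw [P, ← h.2, D.vec_comb]
  exact add_mem (Submodule.smul_mem _ _ (Submodule.subset_span (Or.inl rfl)))
    (Submodule.smul_mem _ _ (Submodule.subset_span (Or.inr rfl)))

theorem exists_line_point {l : ℕ} (hl : l < 112) {x : Fin 4 → F} (hx : x ∈ D.W l) (h0 : x ≠ 0) :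
    ∃ i ∈ lineC l, ∃ a : F, a ≠ 0 ∧ x = a • D.P i := by
  obtain ⟨a, b, rfl⟩ := Submodule.mem_span_pair.1 hx
  by_cases ha : a = 0
  · subst ha
    rw [zero_smul, zero_add] at h0 ⊢
    exact ⟨snd' l, (lines_ok.2 l hl).2.2.2.2.1, b, fun h => h0 (by rw [h, zero_smul]), rfl⟩
  · obtain ⟨c, hc, hcb⟩ := D.φ_surj (a⁻¹ * b)
    have h := List.all_eq_true.1 (List.all_eq_true.1 span_ok l (List.mem_range.2 hl)) c (List.mem_range.2 hc)
    obtain ⟨i, hi, h⟩ := List.any_eq_true.1 h
    obtain ⟨k, hk, h⟩ := List.any_eq_true.1 h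
    rw [Bool.and_eq_true, beq_iff_eq, bne_iff_ne] at h
    have hk0 : D.φ k ≠ 0 := fun e => h.1 (D.φ_eq_zero (List.mem_range.1 hk) e)
    refine ⟨i, hi, a * D.φ k, mul_ne_zero ha hk0, ?_⟩
    have e := congrArg D.vec h.2
    rw [D.vec_smul, D.vec_comb, D.φ_one, one_smul, hcb] at e
    rw [mul_smul]
    show _ = a • (D.φ k • D.vec (ptC i))
    rw [e, smul_add, smul_smul, ← mul_assoc, mul_inv_cancel₀ ha, one_mul]
    rfl

theorem exists_join {a b : ℕ} (ha : a < 280) (hb : b < 280) (hab : a ≠ b)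
    (h : hermForm 4 F 3 (D.P a) (D.P b) = 0) : ∃ l < 112, a ∈ lineC l ∧ b ∈ lineC l := by
  wlog hlt : a < b generalizing a b
  · obtain ⟨l, hl, h1, h2⟩ := this hb ha hab.symm ((H_eq_zero_comm D.hF).1 h) (by omega)
    exact ⟨l, hl, h2, h1⟩
  have hj := List.all_eq_true.1 (List.all_eq_true.1 join_ok a (List.mem_range.2 ha)) b (List.mem_range.2 hb)
  rw [Bool.or_eq_true, Bool.or_eq_true, decide_eq_true_eq, bne_iff_ne] at hj
  rcases hj with (hj | hj) | hj
  · omega
  · exact absurd (D.φ_eq_zero (hermT_lt _ _) (by rw [D.φ_hermT]; exact h)) hj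
  · obtain ⟨l, hl, hl'⟩ := List.any_eq_true.1 hj
    have h' := List.all_eq_true.1 (List.all_eq_true.1 ptLines_ok a (List.mem_range.2 ha)) l hl
    rw [Bool.and_eq_true, decide_eq_true_eq, List.contains_iff_mem] at h'
    exact ⟨l, h'.1, h'.2, mem_lineM h'.1 hl'⟩

/-- A line is sent into a line. -/
def Maps (g : Cfsg.SU 4 F 3) (l m : Fin 112) : Prop := ∀ x ∈ D.W l, mat g *ᵥ x ∈ D.W m

theorem exists_image (g : Cfsg.SU 4 F 3) (l : Fin 112) :
    ∃ m : Fin 112, D.Maps g l m ∧ ∀ m' : Fin 112, D.Maps g l m' → m' = m := by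
  obtain ⟨h1, h2, h12, hm1, hm2, ho⟩ := lines_ok.2 l l.2
  have hiso : ∀ {i : ℕ}, i < 280 → hermForm 4 F 3 (mat g *ᵥ D.P i) (mat g *ᵥ D.P i) = 0 := fun hi => by
    rw [SU_H, D.herm_P hi]
  obtain ⟨a, ha, ka, hka, ea⟩ := D.exists_point (mat_mulVec_ne_zero g (D.P_ne h1)) (hiso h1)
  obtain ⟨b, hb, kb, hkb, eb⟩ := D.exists_point (mat_mulVec_ne_zero g (D.P_ne h2)) (hiso h2)
  have hab : a ≠ b := by
    intro e
    subst e
    refine h12 (D.P_inj h1 h2 (a := ka * kb⁻¹) ?_)
    have hz : mat g *ᵥ (D.P (fst' l) - (ka * kb⁻¹) • D.P (snd' l)) = 0 := by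
      rw [Matrix.mulVec_sub, Matrix.mulVec_smul, ea, eb, smul_smul, mul_assoc, inv_mul_cancel₀ hkb,
        mul_one, sub_self]
    by_contra hne
    exact mat_mulVec_ne_zero g (sub_ne_zero.2 hne) hz
  have hab0 : hermForm 4 F 3 (D.P a) (D.P b) = 0 := by
    have e : hermForm 4 F 3 (mat g *ᵥ D.P (fst' l)) (mat g *ᵥ D.P (snd' l)) = 0 := by
      rw [SU_H, P, P, ← D.φ_hermT, ho, D.φ_zero]
    rw [ea, eb, H_smul_left, H_smul_right] at e
    exact ((mul_eq_zero.1 e).resolve_left hka |> mul_eq_zero.1).resolve_left (pow_ne_zero _ hkb)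
  obtain ⟨m, hm, hma, hmb⟩ := D.exists_join ha hb hab hab0
  refine ⟨⟨m, hm⟩, fun x hx => ?_, fun m' hm' => Fin.ext ?_⟩
  · obtain ⟨s, t, rfl⟩ := Submodule.mem_span_pair.1 hx
    rw [Matrix.mulVec_add, Matrix.mulVec_smul, Matrix.mulVec_smul, ea, eb]
    exact add_mem (Submodule.smul_mem _ _ (Submodule.smul_mem _ _ (D.point_mem hm hma).2))
      (Submodule.smul_mem _ _ (Submodule.smul_mem _ _ (D.point_mem hm hmb).2))
  · have key : ∀ {i c : ℕ} {k : F}, c < 280 → k ≠ 0 → i ∈ lineC l → mat g *ᵥ D.P i = k • D.P c →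
        c ∈ lineC m' := by
      intro i c k hc hk hi e
      have hin : mat g *ᵥ D.P i ∈ D.W m' := hm' _ (D.point_mem l.2 hi).2
      obtain ⟨j, hj, s, hs, es⟩ := D.exists_line_point m'.2 hin
        (mat_mulVec_ne_zero g (D.P_ne (D.point_mem l.2 hi).1))
      rw [e] at es
      have : D.P c = (k⁻¹ * s) • D.P j := by
        rw [mul_smul, ← es, smul_smul, inv_mul_cancel₀ hk, one_smul]
      rw [D.P_inj hc (D.point_mem m'.2 hj).1 this]
      exact hj
    exact line_unique m'.2 hm hab (key ha hka hm1 ea) hma (key hb hkb hm2 eb) hmb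

/-- The image of a line. -/
noncomputable def img (g : Cfsg.SU 4 F 3) (l : Fin 112) : Fin 112 := (D.exists_image g l).choose

theorem maps_img (g : Cfsg.SU 4 F 3) (l : Fin 112) : D.Maps g l (D.img g l) :=
  (D.exists_image g l).choose_spec.1

theorem img_eq {g : Cfsg.SU 4 F 3} {l m : Fin 112} (h : D.Maps g l m) : D.img g l = m :=
  ((D.exists_image g l).choose_spec.2 m h).symm

theorem img_one (l : Fin 112) : D.img 1 l = l :=
  D.img_eq fun x hx => by rwa [mat_one, Matrix.one_mulVec]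

theorem img_mul (g h : Cfsg.SU 4 F 3) (l : Fin 112) : D.img (g * h) l = D.img g (D.img h l) :=
  D.img_eq fun x hx => by
    rw [mul_mulVec]
    exact D.maps_img g _ _ (D.maps_img h l x hx)

/-- The permutation of the lines. -/
noncomputable def perm : Cfsg.SU 4 F 3 →* Equiv.Perm (Fin 112) where
  toFun g := ⟨D.img g, D.img g⁻¹, fun l => by rw [← D.img_mul, inv_mul_cancel, D.img_one],
    fun l => by rw [← D.img_mul, mul_inv_cancel, D.img_one]⟩
  map_one' := Equiv.ext D.img_one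
  map_mul' g h := Equiv.ext (D.img_mul g h)

theorem perm_apply (g : Cfsg.SU 4 F 3) (l : Fin 112) : D.perm g l = D.img g l := rfl

theorem adj_img {g : Cfsg.SU 4 F 3} {l m : Fin 112} (h : adjB l m = true) :
    adjB (D.img g l) (D.img g m) = true := by
  obtain ⟨hne, i, hil, him⟩ := (adj_iff l.2 m.2).1 h
  refine (adj_iff (D.img g l).2 (D.img g m).2).2 ⟨fun e => hne ?_, ?_⟩
  · exact congrArg Fin.val ((D.perm g).injective (Fin.ext e : D.perm g l = D.perm g m))
  · have h0 := mat_mulVec_ne_zero g (D.P_ne (D.point_mem l.2 hil).1)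
    obtain ⟨a, ha, ka, hka, ea⟩ := D.exists_line_point (D.img g l).2
      (D.maps_img g l _ (D.point_mem l.2 hil).2) h0
    obtain ⟨b, hb, kb, hkb, eb⟩ := D.exists_line_point (D.img g m).2
      (D.maps_img g m _ (D.point_mem m.2 him).2) h0
    have e : D.P a = (ka⁻¹ * kb) • D.P b := by
      rw [mul_smul, ← eb, ea, smul_smul, inv_mul_cancel₀ hka, one_smul]
    rw [← D.P_inj (D.point_mem (D.img g l).2 ha).1 (D.point_mem (D.img g m).2 hb).1 e] at hb
    exact ⟨a, ha, hb⟩

theorem perm_mem (g : Cfsg.SU 4 F 3) : D.perm g ∈ Au := by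
  intro l m
  rw [Bool.eq_iff_iff]
  refine ⟨fun h => ?_, D.adj_img⟩
  have h' := D.adj_img (g := g⁻¹) h
  rwa [D.perm_apply, D.perm_apply, ← D.img_mul, ← D.img_mul, inv_mul_cancel, D.img_one, D.img_one] at h'

theorem perm_center {g : Cfsg.SU 4 F 3} (hg : g ∈ Subgroup.center (Cfsg.SU 4 F 3)) : D.perm g = 1 := by
  obtain ⟨a, ha⟩ := (mem_center_iff D.hF (by norm_num) g).1 hg
  refine Equiv.ext fun l => D.img_eq fun x hx => ?_
  rw [ha, Matrix.smul_mulVec, Matrix.one_mulVec, Equiv.Perm.one_apply]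
  exact Submodule.smul_mem _ _ hx

theorem perm_ne_one : ∃ g : Cfsg.SU 4 F 3, D.perm g ≠ 1 := by
  obtain ⟨i, hi, hoff⟩ := off_line
  obtain ⟨h1, -, -, hm1, -, -⟩ := lines_ok.2 0 (by norm_num)
  obtain ⟨g, a, hg⟩ := exists_su_point D.hF (D.P_ne h1) (D.P_ne hi) (D.herm_P h1) (D.herm_P hi)
  refine ⟨g, fun h => hoff ?_⟩
  have hin : mat g *ᵥ D.P (fst' 0) ∈ D.W 0 := by
    have := D.maps_img g 0 _ (Submodule.subset_span (Or.inl rfl))
    rwa [← D.perm_apply, h] at this
  obtain ⟨j, hj, s, hs, es⟩ := D.exists_line_point (by norm_num) hin (mat_mulVec_ne_zero g (D.P_ne h1))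
  rw [hg] at es
  have ha : a ≠ 0 := fun e => by
    refine mat_mulVec_ne_zero g (D.P_ne h1) ?_
    rw [hg, e, zero_smul]
  have e : D.P i = (a⁻¹ * s) • D.P j := by rw [mul_smul, ← es, smul_smul, inv_mul_cancel₀ ha, one_smul]
  rw [D.P_inj hi (D.point_mem (by norm_num) hj).1 e]
  exact hj

/-- The action of the projective group. -/
noncomputable def pperm : Cfsg.PSU 4 F 3 →* Au :=
  QuotientGroup.lift _ (D.perm.codRestrict Au D.perm_mem) fun _ hg =>
    MonoidHom.mem_ker.2 (Subtype.ext (D.perm_center hg))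

theorem pperm_injective : Function.Injective D.pperm := by
  haveI : IsSimpleGroup (Cfsg.PSU 4 F 3) := isSimpleGroup_PSU D.hF (by norm_num) (by norm_num)
  rw [← MonoidHom.ker_eq_bot_iff]
  refine (IsSimpleGroup.eq_bot_or_eq_top_of_normal _ inferInstance).resolve_right fun h => ?_
  obtain ⟨g, hg⟩ := D.perm_ne_one
  have h1 : D.pperm (QuotientGroup.mk g) = 1 := by
    rw [← MonoidHom.mem_ker, h]; exact Subgroup.mem_top _
  exact hg (congrArg Subtype.val h1)

end Nine

end Cfsg.Agent.GroupStructure3.McLStab
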