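import Mathlib
import Cfsg.Agent.GroupStructure3.McLStab.Geom
import Cfsg.Agent.GroupStructure3.McLOut.Orbit
import Cfsg.Agent.Lib.Classical.UnitaryFrames

/-!
The stabiliser of a point of the McLaughlin graph is the simple unitary group of dimension four
over nine elements: both act on the neighbours of the point.
-/

set_option autoImplicit false
set_option maxRecDepth 10000

namespace Cfsg.Agent.GroupStructure3.McLStab

open Cfsg Cfsg.Agent.Leech.Basic Cfsg.Agent.Leech.Index Cfsg.Agent.LeechAut.Basic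
open Cfsg.Agent.GroupStructure3.McLOut (A toPerm num)
open Cfsg.Agent.LeechAut Cfsg.Agent.LeechAut.Pairs

/-- A neighbour of the first vertex. -/
def nb (k : Fin 112) : Fin 275 := ⟨nbL.getD k 0 % 275, Nat.mod_lt _ (by norm_num)⟩

theorem nb_inj : ∀ k l : Fin 112, nb k = nb l → k = l := by decide +kernel

theorem nb_iff : ∀ i : Fin 275, McLOut.adjB 0 i = true ↔ ∃ k, nb k = i := by decide +kernel

theorem nb_adj : ∀ k l : Fin 112, McLOut.adjB (nb k) (nb l) = adjB k l := by decide +kernel

theorem sig_inj : (((List.range 275).filter fun i => i != 0 && !(McLOut.adjM 0).testBit i).map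
    fun i => McLOut.adjM i &&& McLOut.adjM 0).Nodup := by decide +kernel

/-- The vertex. -/
noncomputable def y0 : A := num.symm 0

/-- Its stabiliser. -/
noncomputable def H0 : Subgroup McL.G := MulAction.stabilizer McL.G y0

theorem fix_zero (g : H0) : toPerm (g : McL.G) 0 = 0 := by
  have h : (g : McL.G) • y0 = y0 := g.2
  rw [show (0 : Fin 275) = num y0 from (num.apply_symm_apply 0).symm, McLOut.toPerm_num, h]

/-- The image of a neighbour. -/
noncomputable def img (g : H0) (k : Fin 112) : Fin 112 :=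
  ((nb_iff (toPerm (g : McL.G) (nb k))).1 (by
    have h := McLOut.toPerm_mem (g : McL.G) 0 (nb k)
    rw [fix_zero] at h
    rw [h]
    exact (nb_iff _).2 ⟨k, rfl⟩)).choose

theorem nb_img (g : H0) (k : Fin 112) : nb (img g k) = toPerm (g : McL.G) (nb k) :=
  ((nb_iff (toPerm (g : McL.G) (nb k))).1 (by
    have h := McLOut.toPerm_mem (g : McL.G) 0 (nb k)
    rw [fix_zero] at h
    rw [h]
    exact (nb_iff _).2 ⟨k, rfl⟩)).choose_spec

theorem img_mul (g h : H0) (k : Fin 112) : img (g * h) k = img g (img h k) :=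
  nb_inj _ _ (by rw [nb_img, nb_img, nb_img, Subgroup.coe_mul, map_mul]; rfl)

theorem img_one (k : Fin 112) : img 1 k = k :=
  nb_inj _ _ (by rw [nb_img, Subgroup.coe_one, map_one]; rfl)

/-- The action on the neighbours. -/
noncomputable def act : H0 →* Equiv.Perm (Fin 112) where
  toFun g := ⟨img g, img g⁻¹, fun k => by rw [← img_mul, inv_mul_cancel, img_one],
    fun k => by rw [← img_mul, mul_inv_cancel, img_one]⟩
  map_one' := Equiv.ext img_one
  map_mul' g h := Equiv.ext (img_mul g h)

theorem act_apply (g : H0) (k : Fin 112) : act g k = img g k := rfl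

theorem act_mem (g : H0) : act g ∈ Au := fun k l => by
  rw [act_apply, act_apply, ← nb_adj, ← nb_adj, nb_img, nb_img]
  exact McLOut.toPerm_mem _ _ _

theorem act_injective : Function.Injective act := by
  rw [injective_iff_map_eq_one]
  intro g hg
  set σ := toPerm (g : McL.G) with hσ
  have hnb : ∀ i, McLOut.adjB 0 i = true → σ i = i := fun i hi => by
    obtain ⟨k, rfl⟩ := (nb_iff i).1 hi
    rw [hσ, ← nb_img, ← act_apply, hg]
    rfl
  have hone : σ = 1 := by
    refine Equiv.ext fun i => ?_
    rw [Equiv.Perm.one_apply]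
    by_cases hi0 : i = 0
    · rw [hi0, hσ, fix_zero]
    by_cases hia : McLOut.adjB 0 i = true
    · exact hnb i hia
    have hi' : σ i ≠ 0 := fun e => hi0 (σ.injective (e.trans (fix_zero g).symm))
    have hia' : ¬ McLOut.adjB 0 (σ i) = true := fun e => hia (by
      have h := McLOut.toPerm_mem (g : McL.G) 0 i
      rw [fix_zero] at h
      rw [← h]
      exact e)
    have hmem : ∀ j : Fin 275, j ≠ 0 → ¬ McLOut.adjB 0 j = true →
        (j : ℕ) ∈ (List.range 275).filter fun i => i != 0 && !(McLOut.adjM 0).testBit i := fun j h0 ha => by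
      rw [List.mem_filter, List.mem_range, Bool.and_eq_true, bne_iff_ne, Bool.not_eq_true']
      exact ⟨j.2, fun e => h0 (Fin.ext e), Bool.eq_false_iff.2 ha⟩
    refine Fin.ext (List.inj_on_of_nodup_map sig_inj (hmem _ hi' hia') (hmem _ hi0 hia) ?_)
    apply Nat.eq_of_testBit_eq
    intro j
    rw [Nat.testBit_and, Nat.testBit_and]
    cases hb : (McLOut.adjM 0).testBit j with
    | false => rw [Bool.and_false, Bool.and_false]
    | true =>
      rw [Bool.and_true, Bool.and_true]
      have hj : j < 275 := by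
        by_contra hj
        have h0 : McLOut.adjM 0 < 2 ^ 275 := McLOut.adjM_lt (0 : Fin 275)
        rw [Nat.testBit_lt_two_pow (lt_of_lt_of_le h0
          (Nat.pow_le_pow_right (by norm_num) (not_lt.1 hj)))] at hb
        exact absurd hb (by norm_num)
      have h := McLOut.toPerm_mem (g : McL.G) i ⟨j, hj⟩
      rw [← hσ, hnb ⟨j, hj⟩ hb] at h
      exact h
  exact Subtype.ext (McLOut.toPerm_injective (hone.trans (map_one toPerm).symm))

theorem card_H0 : Nat.card H0 = 3265920 := McLOut.card_stab y0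

theorem nonempty_equiv {F : Type} [Field F] [Fintype F] (hF : Fintype.card F = 9) :
    Nonempty (H0 ≃* Cfsg.PSU 4 F 3) := by
  classical
  obtain ⟨D⟩ := exists_nine hF
  have hq : Fintype.card F = 3 ^ 2 := hF
  haveI hs : IsSimpleGroup (Cfsg.PSU 4 F 3) :=
    Cfsg.Agent.Classical.Unitary.isSimpleGroup_PSU hq (by norm_num) (by norm_num)
  have hcard : Nat.card (Cfsg.PSU 4 F 3) = 3265920 := by
    have h := Cfsg.Agent.Classical.Unitary.natCard_PSU_mul (n := 4) hq (by norm_num)
    rw [Cfsg.Agent.Classical.Unitary.natCard_GU hq, show Nat.gcd 4 (3 + 1) = 4 from rfl] at h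
    simp [Finset.prod_range_succ, Nat.even_iff] at h ⊢
    norm_num at h ⊢
    linarith
  let a : H0 →* Au := act.codRestrict Au act_mem
  have ha : Function.Injective a := fun x y e => act_injective (congrArg Subtype.val e)
  let Hh : Subgroup Au := a.range
  have hHh : Nat.card Hh = 3265920 := (Nat.card_congr (MonoidHom.ofInjective ha).toEquiv).symm.trans card_H0
  let K : Subgroup (Cfsg.PSU 4 F 3) := Hh.comap D.pperm
  have hK : K = ⊤ := by
    by_contra hne
    have hi1 : K.index ≠ 1 := fun e => hne (Subgroup.index_eq_one.1 e)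
    have hi8 : K.index ≤ 8 := by
      have h1 : K.index ≤ Hh.index := by
        rw [Subgroup.index_comap]
        refine (Subgroup.relIndex_le_of_le_right le_top ?_).trans_eq (Subgroup.relIndex_top_right Hh)
        rw [Subgroup.relIndex_top_right]
        exact Hh.index_ne_zero_of_finite
      have h2 := Hh.card_mul_index
      have h3 : Nat.card Au ≤ 26127360 := card_Au_le
      rw [hHh] at h2
      omega
    let φ := MulAction.toPermHom (Cfsg.PSU 4 F 3) (Cfsg.PSU 4 F 3 ⧸ K)
    have hφ : Function.Injective φ := by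
      rw [← MonoidHom.ker_eq_bot_iff]
      refine (IsSimpleGroup.eq_bot_or_eq_top_of_normal _ inferInstance).resolve_right fun h => hne ?_
      rw [eq_top_iff]
      intro g _
      have h1 : φ g = 1 := by rw [← MonoidHom.mem_ker, h]; exact Subgroup.mem_top g
      have h2 := DFunLike.congr_fun h1 ((1 : Cfsg.PSU 4 F 3) : Cfsg.PSU 4 F 3 ⧸ K)
      have h3 : ((g * 1 : Cfsg.PSU 4 F 3) : Cfsg.PSU 4 F 3 ⧸ K) = ((1 : Cfsg.PSU 4 F 3) : _) := h2
      rw [QuotientGroup.eq, mul_one, mul_one, inv_mem_iff] at h3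
      exact h3
    have h4 := Nat.card_le_card_of_injective φ hφ
    rw [hcard, Nat.card_perm, ← Subgroup.index_eq_card] at h4
    have h5 := Nat.factorial_le hi8
    norm_num [Nat.factorial] at h5
    omega
  have hle : D.pperm.range ≤ Hh := by
    rintro _ ⟨g, rfl⟩
    exact (show g ∈ K from hK ▸ Subgroup.mem_top g)
  have heq : D.pperm.range = Hh := Subgroup.eq_of_le_of_card_ge hle (by
    rw [hHh, ← Nat.card_congr (MonoidHom.ofInjective D.pperm_injective).toEquiv, hcard])
  exact ⟨((MonoidHom.ofInjective ha).trans (MulEquiv.subgroupCongr heq.symm)).trans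
    (MonoidHom.ofInjective D.pperm_injective).symm⟩

theorem main (u v x : leechLattice) (hu : sqNorm (u : Vec) = 48)
    (hv : sqNorm (v : Vec) = 32 ∧ sqNorm ((u - v) : Vec) = 32)
    (hx : sqNorm (x : Vec) = 32 ∧ sqNorm ((u - x) : Vec) = 32 ∧ dotInt (v : Vec) (x : Vec) = 16)
    {F : Type} [Field F] [Fintype F] (hF : Fintype.card F = 9) :
    Nonempty (↥(MulAction.stabilizer Co0 u ⊓ MulAction.stabilizer Co0 v ⊓ MulAction.stabilizer Co0 x) ≃*
      Cfsg.PSU 4 F 3) := by
  set w : leechLattice := u - v with hwdef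
  have hcoe : (w : Vec) = (u : Vec) - (v : Vec) := rfl
  have hsub : ∀ a b : Vec, sqNorm (a - b) = sqNorm a - 2 * dotInt a b + sqNorm b := fun a b => by
    simp only [sqNorm, dotInt, Pi.sub_apply, Finset.mul_sum, ← Finset.sum_sub_distrib,
      ← Finset.sum_add_distrib]
    exact Finset.sum_congr rfl fun p _ => by ring
  have hdsub : ∀ a b c : Vec, dotInt (a - b) c = dotInt a c - dotInt b c := fun a b c => by
    simp only [dotInt, Pi.sub_apply, sub_mul, Finset.sum_sub_distrib]
  have hdself : ∀ a : Vec, dotInt a a = sqNorm a := fun a => by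
    simp only [sqNorm, dotInt]; exact Finset.sum_congr rfl fun p _ => by ring
  have huv : dotInt (u : Vec) (v : Vec) = 24 := by
    have h := hv.2
    rw [hsub, hu, hv.1] at h
    linarith
  have hux : dotInt (u : Vec) (x : Vec) = 24 := by
    have h := hx.2.1
    rw [hsub, hu, hx.1] at h
    linarith
  have hvw : dotInt (v : Vec) (w : Vec) = -8 := by
    rw [hcoe, dot_comm, hdsub, huv, hdself, hv.1]
    norm_num
  obtain ⟨h, h1, h2⟩ := Pairs.trans_pairs v w v0 McL.w1 hv.1 hv.2 sqNorm_v0 McL.w1_norm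
    (Or.inl (by rw [hvw]; rfl)) (by rw [hvw, McL.dot_v0w1])
  have hy : McL275.InA (h • x) := by
    refine ⟨by rw [sqNorm_smul]; exact hx.1, ?_, ?_⟩
    · rw [← h1, dot_smul]; exact hx.2.2
    · rw [← h2, dot_smul, hcoe, hdsub, hux, hx.2.2]
      norm_num
  obtain ⟨g, hg⟩ := McLOut.transitive (⟨h • x, hy⟩ : A) y0
  set k : Co0 := (g : Co0) * h with hk
  obtain ⟨gv, gw⟩ := McL.mem_G.1 g.2
  have k1 : k • v = v0 := by rw [hk, mul_smul, h1, gv]
  have k2 : k • w = McL.w1 := by rw [hk, mul_smul, h2, gw]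
  have k3 : k • x = y0.1 := by rw [hk, mul_smul]; exact congrArg Subtype.val hg
  have e : (MulAction.stabilizer Co0 u ⊓ MulAction.stabilizer Co0 v ⊓ MulAction.stabilizer Co0 x).map
      (MulAut.conj k).toMonoidHom = H0.map McL.G.subtype := by
    have hu' : u = v + w := by rw [hwdef]; abel
    ext z
    simp only [Subgroup.mem_map, Subgroup.mem_inf, MulAction.mem_stabilizer_iff,
      MulEquiv.coe_toMonoidHom, MulAut.conj_apply, H0]
    constructor
    · rintro ⟨j, ⟨⟨ju, jv⟩, jx⟩, rfl⟩
      have jw : j • w = w := by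
        rw [hu', smul_add', jv] at ju
        exact add_left_cancel ju
      have hmem : k * j * k⁻¹ ∈ McL.G := McL.mem_G.2 ⟨by
        rw [← k1, mul_smul, mul_smul, inv_smul_smul, jv], by
        rw [← k2, mul_smul, mul_smul, inv_smul_smul, jw]⟩
      refine ⟨⟨_, hmem⟩, Subtype.ext ?_, rfl⟩
      show (k * j * k⁻¹) • y0.1 = y0.1
      rw [← k3, mul_smul, mul_smul, inv_smul_smul, jx]
    · rintro ⟨z, hz, rfl⟩
      obtain ⟨zv, zw⟩ := McL.mem_G.1 z.2
      have zy : (z : Co0) • y0.1 = y0.1 := congrArg Subtype.val hz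
      have a1 : (k⁻¹ * (z : Co0) * k) • v = v := by
        rw [mul_smul, mul_smul, k1, zv, ← k1, inv_smul_smul]
      have a2 : (k⁻¹ * (z : Co0) * k) • w = w := by
        rw [mul_smul, mul_smul, k2, zw, ← k2, inv_smul_smul]
      refine ⟨k⁻¹ * (z : Co0) * k, ⟨⟨?_, a1⟩, ?_⟩, ?_⟩
      · rw [hu', smul_add', a1, a2]
      · rw [mul_smul, mul_smul, k3, zy, ← k3, inv_smul_smul]
      · show k * (k⁻¹ * (z : Co0) * k) * k⁻¹ = (z : Co0)
        group
  obtain ⟨E⟩ := nonempty_equiv hF
  exact ⟨((Subgroup.equivMapOfInjective _ _ (MulAut.conj k).injective).trans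
    (MulEquiv.subgroupCongr e)).trans
      ((Subgroup.equivMapOfInjective H0 McL.G.subtype McL.G.subtype_injective).symm.trans E)⟩

end Cfsg.Agent.GroupStructure3.McLStab
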